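import Groth.Agent.Pi1.H421.GalAlg
import Groth.Agent.Pi1B.FieldGal
import Groth.Prelude.Def_SGA1t

/-!
The algebra of a principal `G`-cover of an affine scheme.
-/

set_option autoImplicit false
universe u v
open CategoryTheory CategoryTheory.Limits AlgebraicGeometry

namespace Groth.Agent.Pi1.H421.PrincAlg

open Groth.Agent.Pi1.H421.GalAlg

/-- A principal `G`-cover of `Spec A` is `Spec B` for a finite etale `A`-algebra `B` with an action of `G` which is
simply transitive on geometric fibres. -/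
theorem exists_algebra (A : Type u) [CommRing A] (G : Type v) [Group G]
    (P : FEt.Cat (Spec (CommRingCat.of A))) (ρ : G →* Aut P) (hP : SGA1t.IsPrincipal G P ρ) :
    ∃ (B : Type u) (_ : CommRing B) (_ : Algebra A B) (_ : Module.Finite A B) (_ : Algebra.Etale A B)
      (_ : MulSemiringAction G B) (_ : SMulCommClass G A B) (e : P.left ≅ Spec (CommRingCat.of B)),
      e.hom ≫ Spec.map (CommRingCat.ofHom (algebraMap A B)) = P.hom ∧
      (∀ g : G, (ρ g).hom.left ≫ e.hom =
        e.hom ≫ Spec.map (CommRingCat.ofHom (MulSemiringAction.toRingHom G B g⁻¹))) ∧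
      Module.FaithfullyFlat A B ∧ IsFreeGeom B G ∧ IsTransGeom A B G := by
  obtain ⟨B, _, _, _, _, ⟨e⟩⟩ := Groth.Agent.Pi1B.FieldGal.exists_iso_mkSpec A P
  obtain ⟨e', he'⟩ : ∃ e' : P.left ≅ Spec (CommRingCat.of B),
      e'.hom ≫ Spec.map (CommRingCat.ofHom (algebraMap A B)) = P.hom :=
    ⟨(MorphismProperty.Over.forget FEt.prop ⊤ _ ⋙ Over.forget _).mapIso e, MorphismProperty.Over.w e.hom⟩
  let φ : G → (CommRingCat.of B ⟶ CommRingCat.of B) := fun g =>
    Spec.preimage (e'.inv ≫ (ρ g).hom.left ≫ e'.hom)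
  have hφ : ∀ g, Spec.map (φ g) = e'.inv ≫ (ρ g).hom.left ≫ e'.hom := fun g => Spec.map_preimage _
  have hφ1 : φ 1 = 𝟙 _ := by
    apply Spec.map_injective
    rw [hφ, map_one, Spec.map_id]
    change e'.inv ≫ 𝟙 P.left ≫ e'.hom = _
    rw [Category.id_comp, Iso.inv_hom_id]
  have hφm : ∀ g h, φ (g * h) = φ g ≫ φ h := by
    intro g h
    apply Spec.map_injective
    rw [Spec.map_comp, hφ, hφ, hφ, map_mul]
    change e'.inv ≫ ((ρ h).hom.left ≫ (ρ g).hom.left) ≫ e'.hom = _
    simp
  have hφa : ∀ g (a : A), (φ g).hom (algebraMap A B a) = algebraMap A B a := by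
    intro g a
    have h1 : CommRingCat.ofHom (algebraMap A B) ≫ φ g = CommRingCat.ofHom (algebraMap A B) := by
      apply Spec.map_injective
      rw [Spec.map_comp, hφ, Category.assoc, Category.assoc, he']
      have h2 : (ρ g).hom.left ≫ P.hom = P.hom := MorphismProperty.Over.w (ρ g).hom
      rw [h2, ← he', Iso.inv_hom_id_assoc]
    exact congr($(h1).hom a)
  let act : MulSemiringAction G B :=
    { smul := fun g b => (φ g⁻¹).hom b
      one_smul := fun b => by
        change (φ 1⁻¹).hom b = b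
        rw [inv_one, hφ1]; rfl
      mul_smul := fun g h b => by
        change (φ (g * h)⁻¹).hom b = (φ g⁻¹).hom ((φ h⁻¹).hom b)
        rw [mul_inv_rev, hφm]; rfl
      smul_zero := fun g => map_zero (φ g⁻¹).hom
      smul_add := fun g x y => map_add (φ g⁻¹).hom x y
      smul_one := fun g => map_one (φ g⁻¹).hom
      smul_mul := fun g x y => map_mul (φ g⁻¹).hom x y }
  have hact : ∀ (g : G) (b : B), g • b = (φ g⁻¹).hom b := fun g b => rfl
  have hcomm : SMulCommClass G A B := ⟨fun g a b => by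
    rw [hact, hact, Algebra.smul_def, Algebra.smul_def, map_mul, hφa]⟩
  have hρ : ∀ g : G, (ρ g).hom.left ≫ e'.hom =
        e'.hom ≫ Spec.map (CommRingCat.ofHom (MulSemiringAction.toRingHom G B g⁻¹)) := by
    intro g
    have h1 : CommRingCat.ofHom (MulSemiringAction.toRingHom G B g⁻¹) = φ g := by
      ext b
      change (φ g⁻¹⁻¹).hom b = (φ g).hom b
      rw [inv_inv]
    rw [h1, hφ, Iso.hom_inv_id_assoc]
  -- surjectivity
  have hsurj : Function.Surjective (PrimeSpectrum.comap (algebraMap A B)) := by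
    have h1 : Function.Surjective (Spec.map (CommRingCat.ofHom (algebraMap A B))) := by
      have h2 : Spec.map (CommRingCat.ofHom (algebraMap A B)) = e'.inv ≫ P.hom := by
        rw [← he', Iso.inv_hom_id_assoc]
      rw [h2, Scheme.Hom.comp_base, TopCat.coe_comp]
      exact hP.1.comp (Scheme.homeoOfIso e'.symm).surjective
    exact h1
  have : Module.Flat A B := inferInstance
  have hff : Module.FaithfullyFlat A B := Module.FaithfullyFlat.of_comap_surjective hsurj
  -- geometric points
  have hpt : ∀ (Ω : Type u) [Field Ω] (s : B →+* Ω) (g : G),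
      (Spec.map (CommRingCat.ofHom s) ≫ e'.inv) ≫ (ρ g).hom.left =
        Spec.map (CommRingCat.ofHom (s.comp (MulSemiringAction.toRingHom G B g⁻¹))) ≫ e'.inv := by
    intro Ω _ s g
    rw [CommRingCat.ofHom_comp, Spec.map_comp, Category.assoc, Category.assoc, ← cancel_mono e'.hom]
    simp only [Category.assoc, Iso.inv_hom_id, Category.comp_id]
    rw [hρ, Iso.inv_hom_id_assoc]
  have hgeo : ∀ (Ω : Type u) [Field Ω] [IsAlgClosed Ω] (s t : B →+* Ω),
      (∀ a : A, s (algebraMap A B a) = t (algebraMap A B a)) → ∃! g : G, ∀ b, t b = s (g⁻¹ • b) := by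
    intro Ω _ _ s t hst
    have h0 : s.comp (algebraMap A B) = t.comp (algebraMap A B) := RingHom.ext hst
    let ξ : Spec (CommRingCat.of Ω) ⟶ Spec (CommRingCat.of A) :=
      Spec.map (CommRingCat.ofHom (s.comp (algebraMap A B)))
    have hpos : ∀ r : B →+* Ω, r.comp (algebraMap A B) = s.comp (algebraMap A B) →
        (Spec.map (CommRingCat.ofHom r) ≫ e'.inv) ≫ P.hom = ξ := by
      intro r hr
      rw [← he', Category.assoc, Iso.inv_hom_id_assoc, ← Spec.map_comp, ← CommRingCat.ofHom_comp, hr]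
    let s' : FEt.fiberObj ξ P := ⟨Spec.map (CommRingCat.ofHom s) ≫ e'.inv, hpos s rfl⟩
    let t' : FEt.fiberObj ξ P := ⟨Spec.map (CommRingCat.ofHom t) ≫ e'.inv, hpos t h0.symm⟩
    have key : ∀ g : G, ((FEt.fiber ξ).map (ρ g).hom s' = t') ↔ ∀ b, t b = s (g⁻¹ • b) := by
      intro g
      constructor
      · intro h b
        have h1 : (Spec.map (CommRingCat.ofHom s) ≫ e'.inv) ≫ (ρ g).hom.left =
            Spec.map (CommRingCat.ofHom t) ≫ e'.inv := congrArg Subtype.val h
        rw [hpt, cancel_mono] at h1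
        have h2 := Spec.map_injective h1
        exact (congr($(h2).hom b)).symm
      · intro h
        apply Subtype.ext
        change (Spec.map (CommRingCat.ofHom s) ≫ e'.inv) ≫ (ρ g).hom.left =
            Spec.map (CommRingCat.ofHom t) ≫ e'.inv
        rw [hpt]
        congr 3
        ext b
        exact (h b).symm
    obtain ⟨g, hg, hu⟩ := hP.2 Ω ξ s' t'
    exact ⟨g, (key g).mp hg, fun g' hg' => hu g' ((key g').mpr hg')⟩
  refine ⟨B, inferInstance, inferInstance, inferInstance, inferInstance, act, hcomm, e', he', hρ, hff, ?_, ?_⟩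
  · intro Ω _ _ s g hg
    obtain ⟨g₀, h0, hu⟩ := hgeo Ω s s (fun _ => rfl)
    have h1 := hu g⁻¹ (fun b => by rw [inv_inv, hg])
    have h2 := hu 1 (fun b => by rw [inv_one, one_smul])
    rw [← inv_inj, h1, inv_one, h2]
  · intro Ω _ _ s t hst
    obtain ⟨g, hg, -⟩ := hgeo Ω s t hst
    exact ⟨g⁻¹, hg⟩

end Groth.Agent.Pi1.H421.PrincAlg
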