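import Groth.Agent.Sga1.FreeQuot
import Mathlib.FieldTheory.IsAlgClosed.AlgebraicClosure
import Mathlib.RingTheory.TensorProduct.IncludeLeftSubRight
import Mathlib.RingTheory.Flat.FaithfullyFlat.Algebra

/-!
Finite etale algebras `B/A` with a finite group `G` acting simply transitively on the geometric
fibres: `B ⊗_A B = ∏_G B`, `B^G = A`, surjectivity of the trace.
-/

set_option autoImplicit false
universe u v

namespace Groth.Agent.Pi1.H421.GalAlg

open TensorProduct Groth.Agent.Sga1.FreeQuot

section Defs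

variable (A B : Type u) (G : Type v) [CommRing A] [CommRing B] [Algebra A B] [Group G]
  [MulSemiringAction G B]

/-- `G` acts freely on the geometric points of `B`. -/
def IsFreeGeom : Prop :=
  ∀ (Ω : Type u) [Field Ω] [IsAlgClosed Ω] (s : B →+* Ω) (g : G), (∀ b, s (g • b) = s b) → g = 1

/-- `G` acts transitively on the geometric fibres of `B` over `A`. -/
def IsTransGeom : Prop :=
  ∀ (Ω : Type u) [Field Ω] [IsAlgClosed Ω] (s t : B →+* Ω),
    (∀ a : A, s (algebraMap A B a) = t (algebraMap A B a)) → ∃ g : G, ∀ b, t b = s (g • b)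

end Defs

section

variable {A B : Type u} {G : Type v} [CommRing A] [CommRing B] [Algebra A B] [Group G]
  [MulSemiringAction G B]

theorem IsFreeGeom.exists_notMem (hf : IsFreeGeom B G) (g : G) (hg : g ≠ 1) (M : Ideal B)
    (hM : M.IsMaximal) : ∃ b, g • b - b ∉ M := by
  by_contra! hc
  let : Field (B ⧸ M) := Ideal.Quotient.field M
  refine hg (hf (AlgebraicClosure (B ⧸ M)) ((algebraMap (B ⧸ M) _).comp (Ideal.Quotient.mk M)) g
    fun b => ?_)
  rw [RingHom.comp_apply, RingHom.comp_apply, (Ideal.Quotient.mk_eq_mk_iff_sub_mem _ _).mpr (hc b)]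

variable [SMulCommClass G A B]

variable (A) in
/-- translation `x ⊗ y ↦ x ⊗ g⁻¹ y`. -/
noncomputable def trl (g : G) : B ⊗[A] B →ₐ[A] B ⊗[A] B :=
  Algebra.TensorProduct.map (AlgHom.id A B) (MulSemiringAction.toAlgHom A B g⁻¹)

theorem ev_trl (g h : G) (z : B ⊗[A] B) : ev A h (trl A g z) = ev A (h * g⁻¹) z := by
  have : (ev A (B := B) h).comp (trl A (B := B) g) = ev A (B := B) (h * g⁻¹) := by
    ext x
    · simp [trl]
    · simp [trl, mul_smul]
  exact congr($this z)

theorem eq_zero_of_idem {R : Type u} [CommRing R] (u : R) (hu : u * u = u)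
    (h : ∀ (Ω : Type u) [Field Ω] [IsAlgClosed Ω] (s : R →+* Ω), s u = 0) : u = 0 := by
  have h1 : IsNilpotent u := by
    rw [nilpotent_iff_mem_prime]
    intro J hJ
    have h2 := h (AlgebraicClosure (FractionRing (R ⧸ J)))
      ((algebraMap (FractionRing (R ⧸ J)) _).comp ((algebraMap (R ⧸ J) _).comp (Ideal.Quotient.mk J)))
    rw [RingHom.comp_apply, map_eq_zero, RingHom.comp_apply] at h2
    rw [← Ideal.Quotient.eq_zero_iff_mem]
    exact (IsFractionRing.injective (R ⧸ J) (FractionRing (R ⧸ J))) (by rw [h2, map_zero])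
  obtain ⟨n, hn⟩ := h1
  have h3 : ∀ m : ℕ, u ^ (m + 1) = u := by
    intro m
    induction m with
    | zero => simp
    | succ m ih => rw [pow_succ, ih, hu]
  rcases n with _ | n
  · have h4 : (1 : R) = 0 := by simpa using hn
    rw [← mul_one u, h4, mul_zero]
  · rw [← h3 n, hn]

section Main

variable [Finite G] [Algebra.FormallyUnramified A B] [Algebra.EssFiniteType A B]

variable (A) in
omit [Finite G] in
/-- The graph idempotents. -/
theorem exists_graph (hf : IsFreeGeom B G) (ht : IsTransGeom A B G) :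
    ∃ t : G → B ⊗[A] B, (∀ g, ev A g (t g) = 1) ∧ (∀ g h, g ≠ h → ev A g (t h) = 0) ∧
      (∀ g z, z * t g = (ev A g z ⊗ₜ[A] 1) * t g) ∧ ∀ [Fintype G], ∑ g, t g = 1 := by
  classical
  obtain ⟨t, ht1, ht2⟩ := (Algebra.FormallyUnramified.iff_exists_tensorProduct (R := A) (S := B)).mp inferInstance
  have hev : ev A (B := B) (1 : G) = (Algebra.TensorProduct.lmul' A (S := B)) := by
    ext <;> simp
  have h1 : ev A (1 : G) t = 1 := by rw [hev]; exact ht2
  have h2 : ∀ g : G, g ≠ 1 → ev A g t = 0 := by
    intro g hg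
    have h3 : Ideal.span (Set.range fun b : B => g • b - b) = ⊤ := by
      by_contra hne
      obtain ⟨M, hM, hle⟩ := Ideal.exists_le_maximal _ hne
      obtain ⟨b, hb⟩ := hf.exists_notMem g hg M hM
      exact hb (hle (Ideal.subset_span ⟨b, rfl⟩))
    have h4 : ∀ x ∈ Ideal.span (Set.range fun b : B => g • b - b), x * ev A g t = 0 := by
      intro x hx
      refine Submodule.span_induction (p := fun x _ => x * ev A g t = 0) ?_ ?_ ?_ ?_ hx
      · rintro _ ⟨b, rfl⟩
        have := congrArg (ev A g) (ht1 b)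
        simpa [map_mul, map_sub] using this
      · exact zero_mul _
      · intro x y _ _ hx hy
        rw [add_mul, hx, hy, add_zero]
      · intro a x _ hx
        rw [smul_eq_mul, mul_assoc, hx, mul_zero]
    have := h4 1 (h3 ▸ Submodule.mem_top)
    rwa [one_mul] at this
  -- multiplication by `t`
  have h3 : ∀ z, z * t = (ev A (1 : G) z ⊗ₜ[A] 1) * t := by
    intro z
    induction z with
    | zero => simp
    | tmul x y =>
      have h5 := ht1 y
      rw [sub_mul, sub_eq_zero] at h5
      have h6 : x ⊗ₜ[A] y = (x ⊗ₜ[A] (1 : B)) * ((1 : B) ⊗ₜ[A] y) := by simp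
      rw [h6, mul_assoc, h5, ← mul_assoc]
      simp
    | add x y hx hy =>
      rw [add_mul, hx, hy, map_add, TensorProduct.add_tmul, add_mul]
  have h4 : ∀ (g : G) (z : B ⊗[A] B), z * trl A g t = (ev A g z ⊗ₜ[A] 1) * trl A g t := by
    intro g z
    have h5 : z = trl A g (trl A g⁻¹ z) := by
      have : (trl A (B := B) g).comp (trl A (B := B) g⁻¹) = AlgHom.id A (B ⊗[A] B) := by
        ext x <;> simp [trl]
      exact congr($this z).symm
    have h6 : trl A g (trl A g⁻¹ z) * trl A g t = trl A g (trl A g⁻¹ z * t) := (map_mul _ _ _).symm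
    rw [← h5] at h6
    rw [h6, h3, map_mul, ev_trl, inv_inv, one_mul]
    congr 1
    simp [trl]
  have hev1 : ∀ g : G, ev A g (trl A g t) = 1 := fun g => by rw [ev_trl, mul_inv_cancel, h1]
  have hev2 : ∀ g h : G, g ≠ h → ev A g (trl A h t) = 0 := fun g h hgh => by
    rw [ev_trl, h2 _ (by rwa [ne_eq, mul_inv_eq_one])]
  refine ⟨fun g => trl A g t, hev1, hev2, h4, ?_⟩
  intro _
  have horth : ∀ g h : G, trl A g t * trl A h t = if g = h then trl A g t else 0 := by
    intro g h
    split_ifs with hgh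
    · subst hgh
      rw [h4, hev1]
      exact one_mul _
    · rw [h4, hev2 _ _ (Ne.symm hgh), TensorProduct.zero_tmul, zero_mul]
  have hsum : (∑ g : G, trl A g t) * (∑ g : G, trl A g t) = ∑ g : G, trl A g t := by
    rw [Finset.sum_mul]
    refine Finset.sum_congr rfl fun g _ => ?_
    rw [Finset.mul_sum]
    simp [horth]
  have hu : (1 - ∑ g : G, trl A g t) = 0 := by
    refine eq_zero_of_idem _ ?_ ?_
    · linear_combination hsum
    · intro Ω _ _ π
      obtain ⟨g, hg⟩ := ht Ω (π.comp (Algebra.TensorProduct.includeLeftRingHom))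
        (π.comp (Algebra.TensorProduct.includeRight (R := A) (A := B) (B := B)).toRingHom) (fun a => by
          simp only [RingHom.comp_apply]
          congr 1
          simp [Algebra.algebraMap_eq_smul_one, TensorProduct.smul_tmul'])
      have hπ : ∀ z, π z = π (ev A g z ⊗ₜ[A] 1) := by
        intro z
        induction z with
        | zero => simp
        | tmul x y =>
          have h6 : x ⊗ₜ[A] y = (x ⊗ₜ[A] (1 : B)) * ((1 : B) ⊗ₜ[A] y) := by simp
          have h7 : ev A g (x ⊗ₜ[A] y) ⊗ₜ[A] (1 : B) = (x ⊗ₜ[A] (1 : B)) * ((g • y) ⊗ₜ[A] (1 : B)) := by simp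
          rw [h6, map_mul, ← h6, h7, map_mul]
          congr 1
          exact hg y
        | add x y hx hy => rw [map_add, hx, hy, map_add, TensorProduct.add_tmul, map_add]
      rw [hπ, map_sub, map_one, map_sum, Finset.sum_eq_single g (fun h _ hh => hev2 g h (Ne.symm hh))
        (fun h => absurd (Finset.mem_univ g) h), hev1, sub_self, TensorProduct.zero_tmul, map_zero]
  exact (sub_eq_zero.mp hu).symm

variable (A) in
theorem eq_zero_of_ev_eq_zero (hf : IsFreeGeom B G) (ht : IsTransGeom A B G) (z : B ⊗[A] B)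
    (hz : ∀ g : G, ev A g z = 0) : z = 0 := by
  cases nonempty_fintype G
  obtain ⟨t, h1, h2, h3, h4⟩ := exists_graph A hf ht
  rw [← mul_one z, ← h4, Finset.mul_sum]
  refine Finset.sum_eq_zero fun g _ => ?_
  rw [h3, hz, TensorProduct.zero_tmul, zero_mul]

variable (A) in
theorem bijective_ev (hf : IsFreeGeom B G) (ht : IsTransGeom A B G) :
    Function.Bijective (fun (z : B ⊗[A] B) (g : G) => ev A g z) := by
  cases nonempty_fintype G
  classical
  refine ⟨fun x y hxy => ?_, fun b => ?_⟩
  · rw [← sub_eq_zero]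
    refine eq_zero_of_ev_eq_zero A (G := G) hf ht _ fun g => ?_
    rw [map_sub, sub_eq_zero]
    exact congrFun hxy g
  · obtain ⟨t, h1, h2, h3, h4⟩ := exists_graph A hf ht
    refine ⟨∑ g, (b g ⊗ₜ[A] 1) * t g, ?_⟩
    funext g
    change ev A g (∑ g, (b g ⊗ₜ[A] 1) * t g) = b g
    rw [map_sum, Finset.sum_eq_single g (fun h _ hh => by rw [map_mul, h2 g h (Ne.symm hh), mul_zero])
        (fun h => absurd (Finset.mem_univ g) h), map_mul, h1]
    simp

variable (A) in
theorem isInvariant [Module.FaithfullyFlat A B] (hf : IsFreeGeom B G) (ht : IsTransGeom A B G) :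
    Algebra.IsInvariant A B G where
  isInvariant b hb := by
    have h1 : Algebra.TensorProduct.includeLeftSubRight A B b = 0 := by
      rw [Algebra.TensorProduct.includeLeftSubRight_apply]
      refine eq_zero_of_ev_eq_zero A (G := G) hf ht _ fun g => ?_
      rw [map_sub, ev_tmul, ev_tmul, hb, smul_one]
      ring
    exact (Algebra.IsEffective.of_faithfullyFlat A B b).mp h1

variable (A) in
theorem exists_trace_one [Module.FaithfullyFlat A B] (hf : IsFreeGeom B G) (ht : IsTransGeom A B G)
    [Fintype G] : ∃ b : B, ∑ g : G, g • b = 1 := by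
  have := isInvariant A hf ht
  have hinj : Function.Injective (algebraMap A B) := FaithfulSMul.algebraMap_injective A B
  obtain ⟨e, he⟩ := exists_isSep A (G := G) (fun g hg M hM => hf.exists_notMem g hg M hM)
  obtain ⟨S, hS⟩ := TensorProduct.exists_finset e
  rw [hS] at he
  let I : Ideal A := LinearMap.range (tr A G hinj)
  have h1 : I = ⊤ := by
    have h2 : I.map (algebraMap A B) = ⊤ := by
      rw [Ideal.eq_top_iff_one, ← sum_mul_tr hinj S he 1]
      refine Ideal.sum_mem _ fun i _ => ?_
      rw [Algebra.smul_def]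
      exact Ideal.mul_mem_right _ _ (Ideal.mem_map_of_mem _ ⟨_, rfl⟩)
    rw [← Ideal.comap_map_eq_self_of_faithfullyFlat (B := B) I, h2, Ideal.comap_top]
  obtain ⟨b, hb⟩ := (Ideal.eq_top_iff_one _).mp h1
  exact ⟨b, by rw [← algebraMap_tr A hinj, hb, map_one]⟩

end Main

end

end Groth.Agent.Pi1.H421.GalAlg
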