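import Groth.Agent.Pi1.H421.AffStep
import Groth.Agent.Pi1.H421.TwoGlue
import Groth.Agent.S1319
import Mathlib.AlgebraicGeometry.Noetherian

/-!
A smooth scheme over `Spec A₀` which is covered by two affine opens with affine intersection lifts along a square-zero
thickening `Spec A₀ → Spec A`, and the lift has again such a cover.
-/

set_option autoImplicit false
universe u

open CategoryTheory CategoryTheory.Limits AlgebraicGeometry

namespace Groth.Agent.Pi1.H421.LiftStep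

variable {A A₀ : Type u} [CommRing A] [CommRing A₀] (φ : A →+* A₀) (hφ : Function.Surjective φ)
  (h2 : (RingHom.ker φ) ^ 2 = ⊥)

/-- `X` is covered by two affine opens with affine intersection. -/
def TwoAffine (X : Scheme.{u}) : Prop :=
  ∃ U V : X.Opens, IsAffineOpen U ∧ IsAffineOpen V ∧ IsAffineOpen (U ⊓ V) ∧ U ⊔ V = ⊤

include hφ h2

omit h2 in
theorem ker_appTop : ∃ e : A ≃+* Γ(Spec (CommRingCat.of A), ⊤),
    RingHom.ker ((Spec.map (CommRingCat.ofHom φ)).app ⊤).hom = (RingHom.ker φ).map e.toRingHom := by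
  let e : A ≃+* Γ(Spec (CommRingCat.of A), ⊤) := (Scheme.ΓSpecIso (CommRingCat.of A)).symm.commRingCatIsoToRingEquiv
  refine ⟨e, ?_⟩
  have h := Scheme.ΓSpecIso_inv_naturality (CommRingCat.ofHom φ)
  have h' : ∀ a, ((Spec.map (CommRingCat.ofHom φ)).app ⊤).hom (e a) =
      (Scheme.ΓSpecIso (CommRingCat.of A₀)).inv.hom (φ a) := fun a => congr($(h).hom a).symm
  have hinj : Function.Injective (Scheme.ΓSpecIso (CommRingCat.of A₀)).inv.hom :=
    (Scheme.ΓSpecIso (CommRingCat.of A₀)).symm.commRingCatIsoToRingEquiv.injective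
  apply le_antisymm
  · intro x hx
    obtain ⟨a, rfl⟩ := e.surjective x
    refine Ideal.mem_map_of_mem e.toRingHom ?_
    rw [RingHom.mem_ker] at hx ⊢
    rw [h'] at hx
    exact hinj (hx.trans (map_zero _).symm)
  · rw [Ideal.map_le_iff_le_comap]
    intro a ha
    change ((Spec.map (CommRingCat.ofHom φ)).app ⊤).hom (e a) = 0
    rw [h', (show φ a = 0 from ha)]
    exact map_zero _

theorem isFiniteOrderThickening : MoreMor.IsFiniteOrderThickening (Spec.map (CommRingCat.ofHom φ)) := by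
  have h1 : IsClosedImmersion (Spec.map (CommRingCat.ofHom φ)) := IsClosedImmersion.spec_of_surjective _ hφ
  refine ⟨⟨h1, ?_⟩, 2, ?_⟩
  · refine ⟨fun (x : PrimeSpectrum A) => ?_⟩
    have h3 : x ∈ Set.range (PrimeSpectrum.comap φ) := by
      rw [range_comap_of_surjective _ _ hφ]
      intro a ha
      have h4 : a ^ 2 = 0 := by
        have : a ^ 2 ∈ (RingHom.ker φ) ^ 2 := Ideal.pow_mem_pow ha 2
        rwa [h2] at this
      exact x.2.mem_of_pow_mem 2 (by rw [h4]; exact x.asIdeal.zero_mem)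
    exact h3
  · obtain ⟨e, he⟩ := ker_appTop φ hφ
    apply Scheme.IdealSheafData.ext_of_isAffine
    rw [Scheme.IdealSheafData.ideal_pow, Pi.pow_apply, Scheme.Hom.ker_apply, he, ← Ideal.map_pow, h2,
      Ideal.map_bot]
    rfl

theorem exists_lift {X₀ : Scheme.{u}} (f₀ : X₀ ⟶ Spec (CommRingCat.of A₀)) [Smooth f₀] (hX₀ : TwoAffine X₀) :
    ∃ (X : Scheme.{u}) (f : X ⟶ Spec (CommRingCat.of A)) (i : X₀ ⟶ X), Smooth f ∧
      IsPullback i f₀ f (Spec.map (CommRingCat.ofHom φ)) ∧ TwoAffine X := by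
  obtain ⟨U, V, hU, hV, hUV, hcov⟩ := hX₀
  have hthick := isFiniteOrderThickening φ hφ h2
  have hcl : IsClosedImmersion (Spec.map (CommRingCat.ofHom φ)) := hthick.1.1
  have hsu : Surjective (Spec.map (CommRingCat.ofHom φ)) := hthick.1.2
  have hU' : IsAffine (U : Scheme.{u}) := hU
  have hV' : IsAffine (V : Scheme.{u}) := hV
  have hW' : IsAffine ((U ⊓ V : X₀.Opens) : Scheme.{u}) := hUV
  obtain ⟨U₁, hU₁, u, hU₁a, hU₁s, sqU⟩ := AffStep.exists_lift φ hφ h2 (U.ι ≫ f₀)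
  obtain ⟨V₁, hV₁, v, hV₁a, hV₁s, sqV⟩ := AffStep.exists_lift φ hφ h2 (V.ι ≫ f₀)
  have huc : IsClosedImmersion u := MorphismProperty.of_isPullback sqU.flip ‹_›
  have hus : Surjective u := MorphismProperty.of_isPullback sqU.flip ‹_›
  have hvc : IsClosedImmersion v := MorphismProperty.of_isPullback sqV.flip ‹_›
  have hvs : Surjective v := MorphismProperty.of_isPullback sqV.flip ‹_›
  let W : X₀.Opens := U ⊓ V
  let a₀ : (W : Scheme.{u}) ⟶ U := X₀.homOfLE inf_le_left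
  let b₀ : (W : Scheme.{u}) ⟶ V := X₀.homOfLE inf_le_right
  have ha₀ : a₀ ≫ U.ι = W.ι := X₀.homOfLE_ι _
  have hb₀ : b₀ ≫ V.ι = W.ι := X₀.homOfLE_ι _
  -- the open subscheme `W₁` of `U₁`
  have huh : Topology.IsClosedEmbedding u := u.isClosedEmbedding
  have huho : IsHomeomorph u := by
    rw [isHomeomorph_iff_isEmbedding_surjective]
    exact ⟨huh.isEmbedding, hus.surj⟩
  let W₁ : U₁.Opens := ⟨u '' (a₀.opensRange : Set U), huho.isOpenMap _ a₀.opensRange.2⟩
  have hW₁ : u ⁻¹ᵁ W₁ = a₀.opensRange := by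
    ext x
    change u x ∈ u '' (a₀.opensRange : Set U) ↔ _
    rw [huh.injective.mem_set_image]
  have hle : Set.range (a₀ ≫ u) ⊆ Set.range W₁.ι := by
    rintro _ ⟨x, rfl⟩
    rw [Scheme.Opens.range_ι]
    exact ⟨a₀ x, ⟨x, rfl⟩, rfl⟩
  let w : (W : Scheme.{u}) ⟶ W₁ := IsOpenImmersion.lift W₁.ι (a₀ ≫ u) hle
  have hw : w ≫ W₁.ι = a₀ ≫ u := IsOpenImmersion.lift_fac _ _ _
  have sqW0 : IsPullback w a₀ W₁.ι u := by
    refine IsOpenImmersion.isPullback w a₀ W₁.ι u hw.symm ?_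
    rw [Scheme.Opens.opensRange_ι]
    exact hW₁
  have sqW : IsPullback w (a₀ ≫ U.ι ≫ f₀) (W₁.ι ≫ hU₁) (Spec.map (CommRingCat.ofHom φ)) := sqW0.paste_vert sqU
  have hwc : IsClosedImmersion w := MorphismProperty.of_isPullback sqW0.flip ‹_›
  have hws : Surjective w := MorphismProperty.of_isPullback sqW0.flip ‹_›
  have hW₁a : IsAffine (W₁ : Scheme.{u}) := Groth.Agent.Flat2C.AffineThickening.isAffine_of_thickening w
  have hab : a₀ ≫ U.ι ≫ f₀ = b₀ ≫ V.ι ≫ f₀ := by
    rw [← Category.assoc, ← Category.assoc, ha₀, hb₀]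
  obtain ⟨ψ, hψ1, hψ2⟩ := AffStep.exists_lift_mor φ hφ h2 w (a₀ ≫ U.ι ≫ f₀) (W₁.ι ≫ hU₁) sqW hV₁ (b₀ ≫ v) (by
    rw [sqW.w, Category.assoc, sqV.w, hab, Category.assoc, Category.assoc, Category.assoc])
  have hWs : Smooth (ψ ≫ hV₁) := by rw [hψ2]; infer_instance
  have hψ : IsOpenImmersion ψ := by
    refine (Groth.Agent.S1319.result w v (Spec.map (CommRingCat.ofHom φ)) b₀ ψ (V.ι ≫ f₀) hV₁ hthick ?_ sqV
      hψ1).mp inferInstance
    rw [hψ2, ← hab]
    exact sqW
  obtain ⟨X, iU, iV, hiU, hiV, hpo, hsurj, hinter⟩ := TwoGlue.exists_glue W₁.ι ψ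
  let f : X ⟶ Spec (CommRingCat.of A) := hpo.desc hU₁ hV₁ hψ2.symm
  have hf1 : iU ≫ f = hU₁ := hpo.inl_desc _ _ _
  have hf2 : iV ≫ f = hV₁ := hpo.inr_desc _ _ _
  -- the base change of `X`
  let Y : Scheme.{u} := pullback f (Spec.map (CommRingCat.ofHom φ))
  have sqY : IsPullback (pullback.fst f (Spec.map (CommRingCat.ofHom φ))) (pullback.snd f (Spec.map (CommRingCat.ofHom φ)))
    f (Spec.map (CommRingCat.ofHom φ)) := IsPullback.of_hasPullback _ _
  let jU : (U : Scheme.{u}) ⟶ Y := pullback.lift (u ≫ iU) (U.ι ≫ f₀) (by rw [Category.assoc, hf1, sqU.w])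
  let jV : (V : Scheme.{u}) ⟶ Y := pullback.lift (v ≫ iV) (V.ι ≫ f₀) (by rw [Category.assoc, hf2, sqV.w])
  have hjU1 : jU ≫ pullback.fst _ _ = u ≫ iU := pullback.lift_fst _ _ _
  have hjU2 : jU ≫ pullback.snd _ _ = U.ι ≫ f₀ := pullback.lift_snd _ _ _
  have hjV1 : jV ≫ pullback.fst _ _ = v ≫ iV := pullback.lift_fst _ _ _
  have hjV2 : jV ≫ pullback.snd _ _ = V.ι ≫ f₀ := pullback.lift_snd _ _ _
  have sqjU : IsPullback jU u (pullback.fst f (Spec.map (CommRingCat.ofHom φ))) iU := by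
    refine IsPullback.of_right (h₁₂ := pullback.snd _ _) (v₁₃ := Spec.map (CommRingCat.ofHom φ)) (h₂₂ := f) ?_ hjU1 sqY.flip
    rw [hjU2, hf1]
    exact sqU.flip
  have sqjV : IsPullback jV v (pullback.fst f (Spec.map (CommRingCat.ofHom φ))) iV := by
    refine IsPullback.of_right (h₁₂ := pullback.snd _ _) (v₁₃ := Spec.map (CommRingCat.ofHom φ)) (h₂₂ := f) ?_ hjV1 sqY.flip
    rw [hjV2, hf2]
    exact sqV.flip
  have hjUo : IsOpenImmersion jU := MorphismProperty.of_isPullback sqjU.flip ‹_›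
  have hjVo : IsOpenImmersion jV := MorphismProperty.of_isPullback sqjV.flip ‹_›
  have hwjab : a₀ ≫ jU = b₀ ≫ jV := by
    apply pullback.hom_ext
    · rw [Category.assoc, hjU1, Category.assoc, hjV1, ← Category.assoc, ← hw, Category.assoc, hpo.w,
        ← Category.assoc, hψ1, Category.assoc]
    · rw [Category.assoc, hjU2, Category.assoc, hjV2, hab]
  have sqWY : IsPullback a₀ b₀ jU jV := by
    refine (IsOpenImmersion.isPullback b₀ a₀ jV jU hwjab ?_).flip
    ext x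
    constructor
    · rintro ⟨y, hy⟩
      have h3 : iU (u x) = iV (v y) := by
        rw [← Scheme.Hom.comp_apply, ← Scheme.Hom.comp_apply, ← hjU1, ← hjV1, Scheme.Hom.comp_apply,
          Scheme.Hom.comp_apply]
        exact congrArg _ hy.symm
      obtain ⟨w', hw1, hw2⟩ := hinter _ _ h3
      have h4 : u x ∈ W₁ := by
        rw [← hw1]
        exact w'.2
      have h5 : x ∈ u ⁻¹ᵁ W₁ := h4
      rw [hW₁] at h5
      exact h5
    · rintro ⟨y, hy⟩
      refine ⟨b₀ y, ?_⟩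
      rw [← hy, ← Scheme.Hom.comp_apply, ← Scheme.Hom.comp_apply, hwjab]
  have hYcov : ∀ y : Y, (∃ x, jU x = y) ∨ ∃ x, jV x = y := by
    intro y
    rcases hsurj (pullback.fst f (Spec.map (CommRingCat.ofHom φ)) y) with ⟨x, hx⟩ | ⟨x, hx⟩
    · left
      obtain ⟨z, hz1, hz2⟩ := Scheme.Pullback.exists_preimage_pullback y x hx.symm
      refine ⟨sqjU.isoPullback.inv z, ?_⟩
      rw [← Scheme.Hom.comp_apply, sqjU.isoPullback_inv_fst]
      exact hz1
    · right
      obtain ⟨z, hz1, hz2⟩ := Scheme.Pullback.exists_preimage_pullback y x hx.symm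
      refine ⟨sqjV.isoPullback.inv z, ?_⟩
      rw [← Scheme.Hom.comp_apply, sqjV.isoPullback_inv_fst]
      exact hz1
  have poY : IsPushout a₀ b₀ jU jV := TwoGlue.isPushout_of_isPullback _ _ _ _ sqWY hYcov
  have poX₀ : IsPushout a₀ b₀ U.ι V.ι := by
    refine TwoGlue.isPushout_of_isPullback _ _ _ _ (isPullback_opens_inf U V) ?_
    intro x
    have hx : x ∈ U ⊔ V := by rw [hcov]; trivial
    rcases hx with hx | hx
    · exact Or.inl ⟨⟨x, hx⟩, rfl⟩
    · exact Or.inr ⟨⟨x, hx⟩, rfl⟩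
  let e : X₀ ≅ Y := poX₀.isoIsPushout _ _ poY
  have he1 : U.ι ≫ e.hom = jU := poX₀.inl_isoIsPushout_hom _ _ poY
  have he2 : V.ι ≫ e.hom = jV := poX₀.inr_isoIsPushout_hom _ _ poY
  have hef : e.hom ≫ pullback.snd f (Spec.map (CommRingCat.ofHom φ)) = f₀ := by
    apply poX₀.hom_ext
    · rw [← Category.assoc, he1, hjU2]
    · rw [← Category.assoc, he2, hjV2]
  have hfs : Smooth f := by
    refine TwoGlue.of_two (P := @Smooth) iU iV hsurj f ?_ ?_
    · rw [hf1]; exact hU₁s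
    · rw [hf2]; exact hV₁s
  refine ⟨X, f, e.hom ≫ pullback.fst f (Spec.map (CommRingCat.ofHom φ)), hfs, ?_, ?_⟩
  · exact IsPullback.of_iso_pullback ⟨by rw [Category.assoc, pullback.condition, ← Category.assoc, hef]⟩ e rfl hef
  · refine ⟨iU.opensRange, iV.opensRange, isAffineOpen_opensRange iU, isAffineOpen_opensRange iV, ?_, ?_⟩
    · have h6 : iU.opensRange ⊓ iV.opensRange = (W₁.ι ≫ iU).opensRange := by
        ext x
        constructor
        · rintro ⟨⟨y, hy⟩, ⟨z, hz⟩⟩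
          obtain ⟨w', hw1, hw2⟩ := hinter y z (hy.trans hz.symm)
          refine ⟨w', ?_⟩
          rw [Scheme.Hom.comp_apply, hw1]
          exact hy
        · rintro ⟨w', hw'⟩
          refine ⟨⟨W₁.ι w', ?_⟩, ⟨ψ w', ?_⟩⟩
          · rw [← hw', Scheme.Hom.comp_apply]
          · rw [← hw', hpo.w, Scheme.Hom.comp_apply]
      rw [h6]
      exact isAffineOpen_opensRange _
    · rw [eq_top_iff]
      intro x _
      rcases hsurj x with ⟨y, hy⟩ | ⟨y, hy⟩
      · exact Or.inl ⟨y, hy⟩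
      · exact Or.inr ⟨y, hy⟩

end Groth.Agent.Pi1.H421.LiftStep
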