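import Groth.Agent.S0217
import Groth.Agent.CurvesA.DimOne
import Groth.Agent.Etcore.CurveTop
import Groth.Agent.Pi1.H421.LiftStep

/-!
A separated Noetherian scheme of dimension at most one is covered by two affine opens.
-/

set_option autoImplicit false
universe u

open CategoryTheory CategoryTheory.Limits AlgebraicGeometry TopologicalSpace

namespace Groth.Agent.Pi1.H421.TwoAff

theorem twoAffine (Z : Scheme.{u}) [IsNoetherian Z] [Z.IsSeparated]
    (hdim : topologicalKrullDim Z ≤ 1) : LiftStep.TwoAffine Z := by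
  obtain ⟨U, hU, -, hfin, -⟩ := Groth.Agent.Etcore.CurveTop.exists_affine_compl_finite Z hdim
  obtain ⟨V, hV, hVs⟩ := Groth.Agent.S0217.result Z (fun U _ => by
      have : NoetherianSpace (U : Set Z) := NoetherianSpace.set _
      exact NoetherianSpace.finite_irreducibleComponents) hfin.toFinset
      (fun y _ => ⟨inferInstance, (Groth.Agent.CurvesA.DimOne.ringKrullDim_stalk_le Z y).trans hdim⟩)
  refine ⟨U, V, hU, hV, hU.inf hV, ?_⟩
  rw [eq_top_iff]
  intro x _
  by_cases hx : x ∈ U
  · exact Or.inl hx
  · exact Or.inr (hVs x (hfin.mem_toFinset.2 hx))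

end Groth.Agent.Pi1.H421.TwoAff
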